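import Mathlib.RingTheory.Unramified.LocalStructure
import Mathlib.RingTheory.ZariskisMainTheorem
import Mathlib.RingTheory.Etale.Locus
import Mathlib.AlgebraicGeometry.Morphisms.Etale
import Mathlib.AlgebraicGeometry.Morphisms.QuasiFinite

/-!
# Smooth and quasi-finite is étale
-/

universe u

set_option linter.style.haveILetI false

open TensorProduct

namespace Groth.Agent.EtaleQF

/-- An algebra which is flat over a polynomial ring and quasi-finite over the coefficients forces
the polynomial ring to have no variables. -/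
theorem eq_zero_of_flat_mvPolynomial_of_quasiFinite {R S : Type u} [CommRing R] [CommRing S]
    [Algebra R S] {n : ℕ} [Algebra (MvPolynomial (Fin n) R) S]
    [IsScalarTower R (MvPolynomial (Fin n) R) S] [Module.Flat (MvPolynomial (Fin n) R) S]
    [Algebra.QuasiFinite R S] (Q : Ideal S) [Q.IsPrime] : n = 0 := by
  let p := Q.comap (algebraMap R S)
  let k := p.ResidueField
  let P := MvPolynomial (Fin n) R
  let D := MvPolynomial (Fin n) k
  letI : Algebra P D := (MvPolynomial.map (algebraMap R k)).toAlgebra
  haveI : IsScalarTower R P D := IsScalarTower.of_algebraMap_eq fun r => by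
    show algebraMap R D r = MvPolynomial.map (algebraMap R k) (MvPolynomial.C r)
    rw [MvPolynomial.map_C]
    rfl
  let C := D ⊗[P] S
  -- `C` is finite over `k`
  let φ : k ⊗[R] S →ₐ[k] C := Algebra.TensorProduct.lift (Algebra.ofId k C)
    ((Algebra.TensorProduct.includeRight (R := P) (A := D) (B := S)).restrictScalars R)
    fun _ _ => .all _ _
  have hφ : Function.Surjective φ := by
    intro c
    induction c using TensorProduct.induction_on with
    | zero => exact ⟨0, map_zero _⟩
    | add a b ha hb =>
      obtain ⟨a', rfl⟩ := ha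
      obtain ⟨b', rfl⟩ := hb
      exact ⟨a' + b', map_add _ _ _⟩
    | tmul d s =>
      induction d using MvPolynomial.induction_on generalizing s with
      | C c =>
        refine ⟨c ⊗ₜ[R] s, ?_⟩
        show MvPolynomial.C c ⊗ₜ[P] (1 : S) * ((1 : D) ⊗ₜ[P] s) = _
        rw [Algebra.TensorProduct.tmul_mul_tmul, mul_one, one_mul]
      | add a b ha hb =>
        obtain ⟨a', ha'⟩ := ha s
        obtain ⟨b', hb'⟩ := hb s
        exact ⟨a' + b', by rw [map_add, ha', hb', TensorProduct.add_tmul]⟩
      | mul_X a i ha =>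
        obtain ⟨a', ha'⟩ := ha (algebraMap P S (MvPolynomial.X i) * s)
        refine ⟨a', ha'.trans ?_⟩
        rw [← Algebra.smul_def, ← TensorProduct.smul_tmul, Algebra.smul_def,
          show algebraMap P D (MvPolynomial.X i) = MvPolynomial.X i from MvPolynomial.map_X _ i,
          mul_comm]
  haveI : Module.Finite k C := Module.Finite.of_surjective φ.toLinearMap hφ
  -- `C` is nonzero
  let L := Q.ResidueField
  letI : Algebra k L := (Ideal.ResidueField.map p Q (algebraMap R S) rfl).toAlgebra
  haveI : IsScalarTower R k L := IsScalarTower.of_algebraMap_eq fun x => by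
    rw [RingHom.algebraMap_toAlgebra, Ideal.ResidueField.map_algebraMap,
      ← IsScalarTower.algebraMap_apply R S L]
  let e : D →+* L := MvPolynomial.eval₂Hom (algebraMap k L)
    fun i => algebraMap S L (algebraMap P S (MvPolynomial.X i))
  have he : e.comp (algebraMap P D) = (algebraMap S L).comp (algebraMap P S) := by
    apply MvPolynomial.ringHom_ext
    · intro r
      show e (MvPolynomial.map (algebraMap R k) (MvPolynomial.C r)) = _
      rw [MvPolynomial.map_C, MvPolynomial.eval₂Hom_C, RingHom.comp_apply,
        ← IsScalarTower.algebraMap_apply R k L, ← MvPolynomial.algebraMap_eq,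
        ← IsScalarTower.algebraMap_apply R P S, ← IsScalarTower.algebraMap_apply R S L]
    · intro i
      show e (MvPolynomial.map (algebraMap R k) (MvPolynomial.X i)) = _
      rw [MvPolynomial.map_X, MvPolynomial.eval₂Hom_X']
      rfl
  let ψ : C →+* L := (Algebra.TensorProduct.lift
    (AlgHom.mk' e fun c x => by
      rw [Algebra.smul_def, Algebra.smul_def, map_mul, IsScalarTower.algebraMap_apply P S L c]
      exact congrArg (· * e x) (RingHom.congr_fun he c) : D →ₐ[P] L)
    (IsScalarTower.toAlgHom P S L) fun _ _ => .all _ _).toRingHom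
  haveI : Nontrivial C := ψ.domain_nontrivial
  -- so `D` is finite over `k`
  have hinj : Function.Injective (algebraMap D C) := by
    refine (injective_iff_map_eq_zero _).2 fun d hd => ?_
    by_contra hd0
    have h1 : IsSMulRegular C (algebraMap D C d) :=
      IsSMulRegular.of_flat (R := D) (IsLeftCancelMulZero.mul_left_cancel_of_ne_zero hd0)
    rw [hd] at h1
    refine one_ne_zero (α := C) (h1 ?_)
    simp
  haveI : Module.Finite k D :=
    Module.Finite.of_injective (IsScalarTower.toAlgHom k D C).toLinearMap hinj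
  haveI : Finite (Fin n →₀ ℕ) :=
    Module.Finite.finite_basis (R := k) (MvPolynomial.basisMonomials (Fin n) k)
  by_contra hn
  haveI : Nonempty (Fin n) := ⟨⟨0, Nat.pos_of_ne_zero hn⟩⟩
  haveI : Infinite (Fin n →₀ ℕ) := Infinite.of_injective
    (fun m : ℕ => Finsupp.single (Classical.arbitrary (Fin n)) m) (Finsupp.single_injective _)
  exact not_finite (Fin n →₀ ℕ)

theorem formallyEtale_of_flat_mvPolynomial_of_quasiFinite {R S : Type u} [CommRing R] [CommRing S]
    [Algebra R S] {n : ℕ} [Algebra (MvPolynomial (Fin n) R) S]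
    [IsScalarTower R (MvPolynomial (Fin n) R) S] [Module.Flat (MvPolynomial (Fin n) R) S]
    [Algebra.FormallyEtale (MvPolynomial (Fin n) R) S]
    [Algebra.QuasiFinite R S] (Q : Ideal S) [Q.IsPrime] : Algebra.FormallyEtale R S := by
  obtain rfl := eq_zero_of_flat_mvPolynomial_of_quasiFinite (R := R) Q (n := n)
  haveI : Algebra.FormallyEtale R (MvPolynomial (Fin 0) R) :=
    .of_equiv (MvPolynomial.isEmptyAlgEquiv R (Fin 0)).symm
  exact .comp R (MvPolynomial (Fin 0) R) S

/-- A quasi-finite point where an algebra of finite presentation is smooth is an étale point. -/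
theorem isEtaleAt_of_isSmoothAt_of_quasiFiniteAt {A B : Type u} [CommRing A] [CommRing B]
    [Algebra A B] [Algebra.FinitePresentation A B] (q : Ideal B) [q.IsPrime]
    [Algebra.QuasiFiniteAt A q] [Algebra.IsSmoothAt A q] : Algebra.IsEtaleAt A q := by
  obtain ⟨f, hf, n, _, _, _⟩ :=
    Algebra.IsSmoothAt.exists_isStandardEtale_mvPolynomial (R := A) (p := q)
  obtain ⟨S', hS', r, hr, hbij⟩ :=
    Algebra.QuasiFiniteAt.exists_fg_and_exists_notMem_and_awayMap_bijective (R := A) q
  haveI : Module.Finite A S' := ⟨(Submodule.fg_top _).mpr hS'⟩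
  haveI : Algebra.QuasiFinite A (Localization.Away r) := .trans _ S' _
  haveI : Algebra.QuasiFinite A (Localization.Away r.1) :=
    .of_surjective_algHom (Localization.awayMapₐ S'.val r) hbij.2
  let Bf := Localization.Away f
  let T := Localization.Away (algebraMap B Bf r.1)
  haveI : IsLocalization.Away (f * r.1) T := IsLocalization.Away.mul' Bf T f r.1
  have hfr : f * r.1 ∉ q := ‹q.IsPrime›.mul_notMem hf hr
  let φ : Localization.Away r.1 →ₐ[B] T :=
    IsLocalization.Away.liftAlgHom r.1 (f := Algebra.ofId B T)
      (isUnit_of_dvd_unit (map_dvd (Algebra.ofId B T) (dvd_mul_left r.1 f))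
        (IsLocalization.Away.algebraMap_isUnit (f * r.1)))
  haveI : Algebra.QuasiFinite A T := by
    refine .of_forall_exists_mul_mem_range (φ.restrictScalars A) fun x => ?_
    obtain ⟨s, ⟨_, m, rfl⟩, rfl⟩ := IsLocalization.exists_mk'_eq (.powers (f * r.1)) x
    refine ⟨algebraMap B _ ((f * r.1) ^ m), ?_, algebraMap B _ s, ?_⟩
    · rw [AlgHom.restrictScalars_apply, AlgHom.commutes, map_pow]
      exact (IsLocalization.Away.algebraMap_isUnit (f * r.1)).pow m
    · show φ (algebraMap B _ s) = _ * φ (algebraMap B _ ((f * r.1) ^ m))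
      rw [AlgHom.commutes, AlgHom.commutes]
      exact (IsLocalization.mk'_spec T s
        (⟨(f * r.1) ^ m, m, rfl⟩ : Submonoid.powers (f * r.1))).symm
  haveI : Algebra.Etale (MvPolynomial (Fin n) A) T :=
    .comp (MvPolynomial (Fin n) A) Bf T
  haveI : (q.map (algebraMap B T)).IsPrime :=
    IsLocalization.isPrime_of_isPrime_disjoint (.powers (f * r.1)) _ _ ‹_›
      ((Ideal.disjoint_powers_iff_notMem_of_isPrime _).mpr hfr)
  haveI := formallyEtale_of_flat_mvPolynomial_of_quasiFinite (R := A) (n := n)
    (q.map (algebraMap B T))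
  haveI : Algebra.FormallyEtale A (Localization.Away (f * r.1)) :=
    .of_equiv ((IsLocalization.algEquiv (.powers (f * r.1)) T
      (Localization.Away (f * r.1))).restrictScalars A)
  exact Algebra.basicOpen_subset_etaleLocus_iff.2 ‹_›
    (show (⟨q, ‹_›⟩ : PrimeSpectrum B) ∈ PrimeSpectrum.basicOpen (f * r.1) from hfr)

open AlgebraicGeometry CategoryTheory in
theorem etale_iff_smooth_and_locallyQuasiFinite {X Y : Scheme.{u}} (f : X ⟶ Y) :
    Etale f ↔ Smooth f ∧ LocallyQuasiFinite f := by
  constructor
  · intro h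
    refine ⟨inferInstance, HasRingHomProperty.iff_appLE.2 fun U V e => ?_⟩
    have := HasRingHomProperty.appLE (P := @Etale) f h U V e
    algebraize [(f.appLE U V e).hom]
    haveI : Algebra.Etale Γ(Y, U) Γ(X, V) := this
    exact (inferInstance : Algebra.QuasiFinite Γ(Y, U) Γ(X, V))
  · rintro ⟨h1, h2⟩
    refine HasRingHomProperty.iff_appLE.2 fun U V e => ?_
    have hs := HasRingHomProperty.appLE (P := @Smooth) f h1 U V e
    have hq := HasRingHomProperty.appLE (P := @LocallyQuasiFinite) f h2 U V e
    algebraize [(f.appLE U V e).hom]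
    haveI : Algebra.Smooth Γ(Y, U) Γ(X, V) := hs
    haveI : Algebra.QuasiFinite Γ(Y, U) Γ(X, V) := hq
    show Algebra.Etale Γ(Y, U) Γ(X, V)
    refine Algebra.etaleLocus_eq_univ_iff_etale.1 (Set.eq_univ_of_forall fun x => ?_)
    haveI : Algebra.IsSmoothAt Γ(Y, U) x.asIdeal :=
      Set.eq_univ_iff_forall.1 (Algebra.smoothLocus_eq_univ_iff.2 inferInstance) x
    exact isEtaleAt_of_isSmoothAt_of_quasiFiniteAt x.asIdeal

end Groth.Agent.EtaleQF
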